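import Cfsg.Agent.H946.RgF4.CrossB
import Cfsg.Agent.H946.RgF4.TypB
import Cfsg.Agent.H946.KZ.Gap
import Cfsg.Agent.H946.DtNamed
import Cfsg.Agent.H56.Exc.Solv

/-!
# S3691, row `F₄(q)`: the factors (helper946)

* `out12`, `out8` : a subgroup `Z` of `F₄(q)` with a prime of the class 12 (8, but none of the class 12);
* `no_fact` : no exact factorization, if a subgroup containing all primes is the whole group.
-/

set_option autoImplicit false

namespace Cfsg.Agent.H946.RgF4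

open Cfsg Cfsg.Agent.OrdDiv Cfsg.Agent.H436 Cfsg.Agent.H915.GN Cfsg.Agent.H264.FKS
open Cfsg.Agent.H902 Cfsg.Agent.H56.Exc Cfsg.Agent.H563.KG Cfsg.Agent.H946.Exc Cfsg.Agent.H325.Loc
open Cfsg.Agent.H425.PartP Cfsg.Agent.H425.Chr Cfsg.Agent.H946.KZ

/-- the exponent of `p` in `c`, `c = 12, 8` -/
def sc (p c : ℕ) : ℕ := if p = 2 then (if c = 12 then 2 else 3) else if p = 3 then (if c = 12 then 1 else 0) else 0

theorem sc_add (p : ℕ) : sc p 12 + sc p 8 = sl p := by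
  unfold sc sl
  by_cases h2 : p = 2
  · simp [h2]
  · by_cases h3 : p = 3
    · simp [h3]
    · simp [h2, h3]

theorem sc_le (p : ℕ) : 2 * sc p 12 ≤ sl p + 1 ∧ sc p 8 ≤ sl p ∧ sc p 12 ≤ sl p ∧ sl p ≤ 5 := by
  unfold sc sl
  by_cases h2 : p = 2
  · simp [h2]
  · by_cases h3 : p = 3
    · simp [h3]
    · simp [h2, h3]

theorem le_sc {p c k : ℕ} (hp : p.Prime) (hc : c = 12 ∨ c = 8) (h : p ^ k ∣ c) : k ≤ sc p c := by
  by_contra hcon
  push Not at hcon
  have h1 : p ^ (sc p c + 1) ∣ c := (pow_dvd_pow p (by omega)).trans h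
  by_cases h2 : p = 2
  · subst h2
    rcases hc with rfl | rfl
    · revert h1; decide
    · revert h1; decide
  · by_cases h3 : p = 3
    · subst h3
      rcases hc with rfl | rfl
      · revert h1; decide
      · revert h1; decide
    · have h4 : p ∣ c := (dvd_pow_self p (by omega)).trans h1
      have h5 : c ∣ 2 ^ 3 * 3 := by rcases hc with rfl | rfl <;> decide
      rcases hp.dvd_mul.1 (h4.trans h5) with h6 | h6
      · exact h2 ((Nat.prime_dvd_prime_iff_eq hp Nat.prime_two).1 (hp.dvd_of_dvd_pow h6))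
      · exact h3 ((Nat.prime_dvd_prime_iff_eq hp Nat.prime_three).1 h6)

/-- small `p`-part -/
def Small (p f ν c v : ℕ) : Prop := v + ν + sl p < 8 * f + sc p c

/-- class 12 -/
def T12 (p f v w : ℕ) : Prop :=
  (v ≤ 6 * f + sc p 12 ∧ (p ^ f) ^ 9 ≤ 2 * w) ∨ (v ≤ 12 * f + sc p 12 ∧ (p ^ f) ^ 13 ≤ w)

/-- class 8 -/
def T8 (p f v w : ℕ) : Prop :=
  v ≤ 8 * f + sc p 8 ∨ (v ≤ 12 * f + sc p 8 ∧ (p ^ f) ^ 15 ≤ w) ∨ (v ≤ 16 * f + sc p 8 ∧ 2 * (p ^ f) ^ 19 ≤ w)

theorem W_mul' (p a b : ℕ) : W p (a * b) = W p a * W p b := Nat.ordCompl_mul a b p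

theorem W_pos {p a : ℕ} (ha : a ≠ 0) : 0 < W p a := Nat.ordCompl_pos p ha

theorem fac_mul {p a b : ℕ} (ha : a ≠ 0) (hb : b ≠ 0) :
    (a * b).factorization p = a.factorization p + b.factorization p := by
  rw [Nat.factorization_mul ha hb, Finsupp.add_apply]

section

variable {p f : ℕ} {F : Type} [Field F] [Fintype F] [CharP F p]

/-- the simple section -/
theorem sec (tb : OrderTable.{0}) (hcyc : CycFixSolv.{0}) (hcf : CF) (hp : p.Prime) (hf : 1 ≤ f)
    (hq : Fintype.card F = p ^ f) (Z : Subgroup ↥(Lie.chevF4.group F)) {c r : ℕ} (hc : c = 12 ∨ c = 8)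
    (hr : Prim p (c * f) r) (hrZ : r ∣ Nat.card Z) :
    (Nat.card Z).factorization p ≤ sc p c ∨ ∃ (S : Type) (_ : Group S) (_ : Finite S) (n : ℕ) (g : Grp),
      IsNamed g S ∧ Nat.card Z = Nat.card S * n ∧ n.factorization p ≤ sc p c ∧ r ∣ Nat.card S ∧
      Big S r (Ph c (p ^ f)) c := by
  have := Fact.mk hp
  have hfin : Finite ↥(Lie.chevF4.group F) := inferInstance
  have hrq : Prim (p ^ f) c r := prim_base hf hr
  have hpm : ¬ p ∣ Ph c (p ^ f) := by
    have hq1 : 1 ≤ p ^ f := Nat.one_le_pow _ _ hp.pos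
    have hcl : Cls c := by unfold Cls; omega
    intro h
    have h1 := h.trans (Ph_dvd hcl hq1)
    have h2 : p ∣ (p ^ f) ^ c := by
      rw [← pow_mul]
      exact dvd_pow_self p (by
        have : 0 < f * c := Nat.mul_pos hf (by omega)
        omega)
    have h3 : 1 ≤ (p ^ f) ^ c := Nat.one_le_pow _ _ hq1
    have h4 := Nat.dvd_sub h2 h1
    rw [Nat.sub_sub_self h3] at h4
    exact hp.one_lt.ne' (Nat.dvd_one.1 h4)
  have hT : Tori ↥(Lie.chevF4.group F) p (fun (_ : Unit) r' => r' = r) (fun _ => Ph c (p ^ f)) (fun _ => c) :=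
    { big := by rintro _ _ rfl; exact bigF4 hq hc hrq
      dvd := by rintro _ _ rfl; exact dvdF4 tb hq hc hrq
      ne := fun _ => ⟨r, rfl⟩
      sep := fun i j _ hij _ => absurd (Subsingleton.elim i j) hij
      ndvd := fun _ => hpm }
  have hpiso : PIso p r ↥(Lie.chevF4.group F) :=
    Cfsg.Agent.H325.IsoExc.piso_F4 (F := F) (d := c) (by omega) (by rw [hq]; exact hrq)
  by_cases hk : ∃ k, p ^ k ∣ Nat.card Z ∧ ¬ p ^ k ∣ c
  · obtain ⟨k, hk1, hk2⟩ := hk
    obtain ⟨S, _, _, n, hs, hna, hcard, hB, hn⟩ := hT.section_p hcyc hp () Z (by rintro _ rfl; exact hrZ)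
      (by rintro _ rfl; exact hpiso) hk1 hk2
    have hs' : IsSimpleGroup S := hs
    obtain ⟨g, hg⟩ := exists_named tb (hcf S) fun h => hna ⟨⟨h⟩⟩
    exact Or.inr ⟨S, inferInstance, inferInstance, n, g, hg, hcard, le_sc hp hc (hn _ (Nat.ordProj_dvd n p)),
      (hB r rfl).2.1, (hB r rfl).1⟩
  · push Not at hk
    exact Or.inl (le_sc hp hc (hk _ (Nat.ordProj_dvd _ p)))

/-- the data of a section in characteristic `p` -/
theorem ts_of (tb : OrderTable.{0}) (hp : p.Prime) (hf : 1 ≤ f) (hq : Fintype.card F = p ^ f)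
    (Z : Subgroup ↥(Lie.chevF4.group F)) {S : Type} [Group S] [Finite S] {n : ℕ} {g : Grp} (hg : IsNamed g S)
    (hch : HasChar p g) (hcard : Nat.card Z = Nat.card S * n) :
    ∃ b, TS p f b (Nat.card S) (Nat.card ↥(Lie.chevF4.group F)) g := by
  obtain ⟨b, hb, -⟩ := Cfsg.Agent.H946.Soc.dt_of_named hp hg hch
  have hT := named_f4 (F := F) tb
  rw [hq] at hT
  have hfin : Finite ↥(Lie.chevF4.group F) := inferInstance
  exact ⟨b, ⟨hp, by omega, Nat.card_pos.ne', hT.cond, rfl, hT.eq⟩, hb,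
    (Dvd.intro _ hcard.symm).trans (Subgroup.card_subgroup_dvd_card Z)⟩

theorem mod_pred (hp : p.Prime) {e r : ℕ} (he : 1 ≤ e) (hr : Prim p e r) : e ∣ r - 1 :=
  Cfsg.Agent.H946.KZ.mod_of_prim hp.two_le he hr

theorem base_lt (hp : p.Prime) {e r : ℕ} (he : 1 ≤ e) (hr : Prim p e r) : e < r :=
  Cfsg.Agent.H946.KZ.lt_of_prim hp.two_le he hr

/-- the small case or characteristic `p` -/
theorem sec' (tb : OrderTable.{0}) (hcyc : CycFixSolv.{0}) (hcf : CF) (hp : p.Prime) (hf : 1 ≤ f)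
    (hq : Fintype.card F = p ^ f) (h5 : 5 ≤ p ^ f) {ν : ℕ} (hν : p ^ ν ∣ Nat.gcd 2 p * f)
    (Z : Subgroup ↥(Lie.chevF4.group F)) {c r : ℕ} (hc : c = 12 ∨ c = 8)
    (hr : Prim p (c * f) r) (hrZ : r ∣ Nat.card Z) :
    Small p f ν c ((Nat.card Z).factorization p) ∨ ∃ (b N n : ℕ) (g : Grp),
      TS p f b N (Nat.card ↥(Lie.chevF4.group F)) g ∧ Nat.card Z = N * n ∧ n.factorization p ≤ sc p c ∧ r ∣ N := by
  have hfin : Finite ↥(Lie.chevF4.group F) := inferInstance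
  have hcf1 : 8 ≤ c * f := by
    calc 8 = 8 * 1 := by norm_num
      _ ≤ c * f := Nat.mul_le_mul (by omega) hf
  rcases sec tb hcyc hcf hp hf hq Z hc hr hrZ with h | ⟨S, _, _, n, g, hg, hcard, hn, hrS, hb⟩
  · left
    have := sm_of_le hp hf h5 hν (v := 0) (by norm_num) (fun _ => by norm_num)
    unfold Small
    omega
  · have hS0 : Nat.card S ≠ 0 := Nat.card_pos.ne'
    have hn0 : n ≠ 0 := by
      rintro rfl
      rw [mul_zero] at hcard
      exact Nat.card_pos.ne' hcard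
    have hT := named_f4 (F := F) tb
    rw [hq] at hT
    have hd : Nat.card S ∣ num (.f4 (p ^ f)) :=
      ((Dvd.intro _ hcard.symm).trans (Subgroup.card_subgroup_dvd_card Z)).trans
        (by rw [← hT.eq]; exact Dvd.intro_left _ rfl)
    rcases cross_small hg hp hf h5 hν hd hc (mod_pred hp (by omega) hr)
      (by have := base_lt hp (by omega) hr; omega) hb hrS with hch | hsm
    · right
      obtain ⟨b, hts⟩ := ts_of (F := F) tb hp hf hq Z hg hch hcard
      exact ⟨b, _, n, g, hts, hcard, hn, hrS⟩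
    · left
      unfold Small
      rw [hcard, fac_mul hS0 hn0]
      omega

theorem prim_three {e : ℕ} (h : 8 ≤ e) : 3 ≤ e ∧ ¬ (p = 2 ∧ e = 6) := by omega

/-- **class 12** -/
theorem out12 (tb : OrderTable.{0}) (hcyc : CycFixSolv.{0}) (hcf : CF) (hp : p.Prime) (hf : 1 ≤ f)
    (hq : Fintype.card F = p ^ f) (h5 : 5 ≤ p ^ f) {ν : ℕ} (hν : p ^ ν ∣ Nat.gcd 2 p * f)
    (Z : Subgroup ↥(Lie.chevF4.group F)) {r : ℕ} (hr : Prim p (12 * f) r) (hrZ : r ∣ Nat.card Z) :
    Small p f ν 12 ((Nat.card Z).factorization p) ∨ ((∀ w, Prim p (12 * f) w → w ∣ Nat.card Z) ∧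
      (T12 p f ((Nat.card Z).factorization p) (W p (Nat.card Z)) ∨ ∀ w, Prim p (8 * f) w → w ∣ Nat.card Z)) := by
  have hfin : Finite ↥(Lie.chevF4.group F) := inferInstance
  rcases sec' tb hcyc hcf hp hf hq h5 hν Z (Or.inl rfl) hr hrZ with h | ⟨b, N, n, g, H, hcard, hn, hrN⟩
  · exact Or.inl h
  right
  have hNZ : N ∣ Nat.card Z := Dvd.intro _ hcard.symm
  refine ⟨fun w hw => (H.all (by omega) hr hrN hw).trans hNZ, ?_⟩
  by_cases h8 : Kc g (8 * f / Nat.gcd (8 * f) b)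
  · right
    intro w hw
    exact ((H.S.dvd_iff (by omega) hw).2 h8).trans hNZ
  · left
    have hN0 : N ≠ 0 := H.S.hc
    have hn0 : n ≠ 0 := by
      rintro rfl
      rw [mul_zero] at hcard
      exact Nat.card_pos.ne' hcard
    have hW := Nat.le_mul_of_pos_right (W p N) (W_pos (p := p) hn0)
    have ht := type12 H (H.top12 hr hrN) h8 h5
    unfold T12
    rw [hcard, fac_mul hN0 hn0, W_mul']
    rcases ht with ⟨h1, h2⟩ | ⟨h1, h2⟩
    · left
      constructor <;> omega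
    · right
      constructor <;> omega

/-- **class 8** -/
theorem out8 (tb : OrderTable.{0}) (hcyc : CycFixSolv.{0}) (hcf : CF) (hp : p.Prime) (hf : 1 ≤ f)
    (hq : Fintype.card F = p ^ f) (h5 : 5 ≤ p ^ f) {ν : ℕ} (hν : p ^ ν ∣ Nat.gcd 2 p * f)
    (Z : Subgroup ↥(Lie.chevF4.group F)) {r : ℕ} (hr : Prim p (8 * f) r) (hrZ : r ∣ Nat.card Z)
    (h12 : ∀ w, Prim p (12 * f) w → ¬ w ∣ Nat.card Z) :
    Small p f ν 8 ((Nat.card Z).factorization p) ∨ ((∀ w, Prim p (8 * f) w → w ∣ Nat.card Z) ∧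
      T8 p f ((Nat.card Z).factorization p) (W p (Nat.card Z))) := by
  have hfin : Finite ↥(Lie.chevF4.group F) := inferInstance
  rcases sec' tb hcyc hcf hp hf hq h5 hν Z (Or.inr rfl) hr hrZ with h | ⟨b, N, n, g, H, hcard, hn, hrN⟩
  · exact Or.inl h
  right
  have hNZ : N ∣ Nat.card Z := Dvd.intro _ hcard.symm
  refine ⟨fun w hw => (H.all (by omega) hr hrN hw).trans hNZ, ?_⟩
  have hN0 : N ≠ 0 := H.S.hc
  have hn0 : n ≠ 0 := by
    rintro rfl
    rw [mul_zero] at hcard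
    exact Nat.card_pos.ne' hcard
  have hW := Nat.le_mul_of_pos_right (W p N) (W_pos (p := p) hn0)
  have ht := type8 H (H.top8 hr hrN fun w hw hwN => h12 w hw (hwN.trans hNZ)) h5
  unfold T8
  rw [hcard, fac_mul hN0 hn0, W_mul']
  rcases ht with h1 | ⟨h1, h2⟩ | ⟨h1, h2⟩
  · left
    omega
  · right; left
    constructor <;> omega
  · right; right
    constructor <;> omega

end

end Cfsg.Agent.H946.RgF4
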