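import Cfsg.Agent.H946.RgF4.TopB
import Cfsg.Agent.H946.RgF4.Sec

/-!
# S3691, row `F₄(q)`: no exact factorizations (helper946)

`no_fact` : `F₄(q)`, `q = p ^ f ≥ 5`, has no proper subgroups `A`, `B` with `|A| |B| n = |F₄(q)|`, `n ∣ (2, p) f`, such that no
prime `r` with `ord_r(p) = 12 f` or `8 f` divides both orders.
-/

set_option autoImplicit false

namespace Cfsg.Agent.H946.RgF4

open Cfsg Cfsg.Agent.OrdDiv Cfsg.Agent.H436 Cfsg.Agent.H915.GN Cfsg.Agent.H264.FKS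
open Cfsg.Agent.H902 Cfsg.Agent.H56.Exc Cfsg.Agent.H563.KG Cfsg.Agent.H946.Exc Cfsg.Agent.H325.Loc
open Cfsg.Agent.H946.KZ (prim_base)

variable {p f : ℕ}

/-! ### numbers -/

theorem nF_lt {q : ℕ} (hq : 2 ≤ q) : nF q < q ^ 28 := by
  have h0 : ∀ k, q ^ k - 1 < q ^ k := fun k => by
    have h1 : 1 ≤ q ^ k := Nat.one_le_pow _ _ (by omega)
    omega
  unfold nF
  calc (q ^ 2 - 1) * (q ^ 6 - 1) * (q ^ 8 - 1) * (q ^ 12 - 1) < q ^ 2 * q ^ 6 * q ^ 8 * q ^ 12 :=
        Nat.mul_lt_mul'' (Nat.mul_lt_mul'' (Nat.mul_lt_mul'' (h0 2) (h0 6)) (h0 8)) (h0 12)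
    _ = q ^ 28 := by ring

theorem nF_ndvd (hp : p.Prime) (hf : 1 ≤ f) : ¬ p ∣ nF (p ^ f) := by
  have h0 : ∀ k, 0 < k → ¬ p ∣ (p ^ f) ^ k - 1 := by
    intro k hk h
    have h1 : p ∣ (p ^ f) ^ k := by
      rw [← pow_mul]
      exact dvd_pow_self p (Nat.mul_pos hf hk).ne'
    have h2 : 1 ≤ (p ^ f) ^ k := Nat.one_le_pow _ _ (Nat.pow_pos hp.pos)
    have h3 := Nat.dvd_sub h1 h
    rw [Nat.sub_sub_self h2] at h3
    exact hp.one_lt.ne' (Nat.dvd_one.1 h3)
  unfold nF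
  intro h
  rcases hp.dvd_mul.1 h with h | h
  · rcases hp.dvd_mul.1 h with h | h
    · rcases hp.dvd_mul.1 h with h | h
      · exact h0 2 (by norm_num) h
      · exact h0 6 (by norm_num) h
    · exact h0 8 (by norm_num) h
  · exact h0 12 (by norm_num) h

theorem fac_num (hp : p.Prime) (hf : 1 ≤ f) : ((p ^ f) ^ 24 * nF (p ^ f)).factorization p = 24 * f := by
  have h1 := nF_ndvd hp hf
  have h2 : nF (p ^ f) ≠ 0 := fun h => h1 (by rw [h]; exact dvd_zero _)
  rw [fac_mul (pow_ne_zero _ (pow_ne_zero _ hp.ne_zero)) h2, Nat.factorization_eq_zero_of_not_dvd h1, ← pow_mul,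
    hp.factorization_pow, Finsupp.single_eq_same, add_zero, mul_comm]

theorem W_num (hp : p.Prime) (hf : 1 ≤ f) : W p ((p ^ f) ^ 24 * nF (p ^ f)) = nF (p ^ f) := by
  have h := W_mul p ((p ^ f) ^ 24 * nF (p ^ f))
  rw [fac_num hp hf] at h
  have h1 : p ^ (24 * f) = (p ^ f) ^ 24 := by rw [← pow_mul, mul_comm]
  rw [h1] at h
  exact Nat.eq_of_mul_eq_mul_left (Nat.pow_pos (Nat.pow_pos hp.pos)) h

/-- the slack -/
theorem slack (hp : p.Prime) (hf : 1 ≤ f) (h5 : 5 ≤ p ^ f) {ν : ℕ} (hν : p ^ ν ∣ Nat.gcd 2 p * f) :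
    sl p + ν < 4 * f := by
  by_cases hp2 : p = 2
  · subst hp2
    have h3 := f_three h5
    have h7 := nu_two hf hν
    obtain ⟨k, rfl⟩ := Nat.exists_eq_add_of_le' h3
    have h8 : ν ≤ k + 3 := (Nat.pow_le_pow_iff_right (by norm_num)).1 (h7.trans (two_mul_le_pow k))
    have e1 : sl 2 = 5 := by decide
    omega
  have h7 := nu_lt hp (nu_odd hp hp2 hf hν) hf
  by_cases hp3 : p = 3
  · subst hp3
    have h3 := f_two h5
    have e1 : sl 3 = 1 := by decide
    omega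
  · have e1 : sl p = 0 := by unfold sl; rw [if_neg hp2, if_neg hp3]
    omega

/-- class 12 against class 8 -/
theorem arith (h5 : 5 ≤ p ^ f) {ν va vb wa wb : ℕ} (hs : sl p + ν < 4 * f) (hv : va + vb + ν = 24 * f)
    (hw : wa * wb < (p ^ f) ^ 28) (ha : T12 p f va wa) (hb : T8 p f vb wb) : False := by
  have h1 := sc_add p
  unfold T12 at ha
  unfold T8 at hb
  generalize p ^ f = q at *
  rcases ha with ⟨ha1, ha2⟩ | ⟨ha1, ha2⟩
  · rcases hb with hb1 | ⟨hb1, hb2⟩ | ⟨hb1, hb2⟩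
    · omega
    · omega
    · have h2 := Nat.mul_le_mul ha2 hb2
      have h3 : q ^ 9 * (2 * q ^ 19) = 2 * q ^ 28 := by ring
      have h4 : 2 * wa * wb = 2 * (wa * wb) := by ring
      omega
  · rcases hb with hb1 | ⟨hb1, hb2⟩ | ⟨hb1, hb2⟩
    · omega
    · have h2 := Nat.mul_le_mul ha2 hb2
      have h3 : q ^ 13 * q ^ 15 = q ^ 28 := by ring
      omega
    · have h2 := Nat.mul_le_mul ha2 hb2
      have h3 : q ^ 13 * (2 * q ^ 19) = q ^ 28 * (2 * q ^ 4) := by ring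
      have h4 : q ^ 28 * 1 ≤ q ^ 28 * (2 * q ^ 4) := Nat.mul_le_mul_left _ (by
        have : 0 < q ^ 4 := Nat.pow_pos (by omega)
        omega)
      omega

/-! ### the theorem -/

section

variable {F : Type} [Field F] [Fintype F] [CharP F p]

/-- one factor has a prime of the class 12 -/
theorem no_fact' (tb : OrderTable.{0}) (hcyc : CycFixSolv.{0}) (hcf : CF) (hp : p.Prime) (hf : 1 ≤ f)
    (hq : Fintype.card F = p ^ f) (h5 : 5 ≤ p ^ f) {n : ℕ} (hn : n ∣ Nat.gcd 2 p * f)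
    (A B : Subgroup ↥(Lie.chevF4.group F)) (hcard : Nat.card A * Nat.card B * n = Nat.card ↥(Lie.chevF4.group F))
    (hA : A ≠ ⊤) (hB : B ≠ ⊤)
    (hnb : ∀ c, c = 12 ∨ c = 8 → ∀ r, Prim p (c * f) r → r ∣ Nat.card A → r ∣ Nat.card B → False)
    {r : ℕ} (hr : Prim p (12 * f) r) (hrA : r ∣ Nat.card A) : False := by
  have hfin : Finite ↥(Lie.chevF4.group F) := inferInstance
  have h2p := hp.two_le
  have hT := named_f4 (F := F) tb
  rw [hq] at hT
  have hN : Nat.card ↥(Lie.chevF4.group F) = (p ^ f) ^ 24 * nF (p ^ f) := by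
    have := hT.eq
    rw [← num_f4, ← this]
    exact (one_mul _).symm
  have ha0 : Nat.card A ≠ 0 := Nat.card_pos.ne'
  have hb0 : Nat.card B ≠ 0 := Nat.card_pos.ne'
  have hn0 : n ≠ 0 := by
    rintro rfl
    rw [mul_zero] at hcard
    exact Nat.card_pos.ne hcard
  have hg2 : Nat.gcd 2 p ≤ 2 := Nat.gcd_le_left _ (by norm_num)
  have hg0 : 0 < Nat.gcd 2 p := Nat.gcd_pos_of_pos_left _ (by norm_num)
  have hnle : n ≤ 2 * f := (Nat.le_of_dvd (Nat.mul_pos hg0 hf) hn).trans (Nat.mul_le_mul_right _ hg2)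
  set ν := n.factorization p with hν0
  have hν : p ^ ν ∣ Nat.gcd 2 p * f := (Nat.ordProj_dvd n p).trans hn
  -- the exponents and the prime to `p` parts
  have hv : (Nat.card A).factorization p + (Nat.card B).factorization p + ν = 24 * f := by
    rw [← fac_num hp hf, ← hN, ← hcard, fac_mul (mul_ne_zero ha0 hb0) hn0, fac_mul ha0 hb0]
  have hww : W p (Nat.card A) * W p (Nat.card B) < (p ^ f) ^ 28 := by
    refine lt_of_le_of_lt ?_ (nF_lt (by omega : 2 ≤ p ^ f))
    rw [← W_num hp hf, ← hN, ← hcard, W_mul', W_mul']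
    exact Nat.le_mul_of_pos_right _ (W_pos hn0)
  -- the primes
  have hnr : ∀ c, c = 12 ∨ c = 8 → ∀ w, Prim p (c * f) w → ¬ w ∣ n := by
    intro c hc w hw hd
    have h1 := Nat.le_of_dvd (Nat.pos_of_ne_zero hn0) hd
    have h2 : 8 * f ≤ c * f := Nat.mul_le_mul_right _ (by omega)
    have h3 := base_lt hp (by omega) hw
    omega
  have hor : ∀ c, c = 12 ∨ c = 8 → ∀ w, Prim p (c * f) w → w ∣ Nat.card A ∨ w ∣ Nat.card B := by
    intro c hc w hw
    have h1 := Cfsg.Agent.H946.KZ.dvdF4 tb hq hc (prim_base (by omega) hw)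
    rw [← hcard] at h1
    exact (hw.prime.dvd_mul.1 ((hw.prime.dvd_mul.1 h1).resolve_right (hnr c hc w hw)))
  -- no factor contains all the primes
  have hnot : ∀ X Y : Subgroup ↥(Lie.chevF4.group F), Nat.card X * Nat.card Y * n = Nat.card ↥(Lie.chevF4.group F) →
      X ≠ ⊤ → (∀ c, c = 12 ∨ c = 8 → ∀ r, Prim p (c * f) r → r ∣ Nat.card X → r ∣ Nat.card Y → False) →
      ¬ ∀ c, c = 12 ∨ c = 8 → ∀ w, Prim p (c * f) w → w ∣ Nat.card X := by
    intro X Y hXY hX hnb' hall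
    apply hX
    refine top_of_off tb hcyc hcf hp hf hq X fun c hc w hw hd => ?_
    have hc' : c = 12 ∨ c = 8 := by simpa using hc
    have h1 : X.index = Nat.card Y * n := by
      apply Nat.eq_of_mul_eq_mul_left (Nat.card_pos (α := X))
      rw [X.card_mul_index, ← hXY, mul_assoc]
    rw [h1] at hd
    rcases hw.prime.dvd_mul.1 hd with h2 | h2
    · exact hnb' c hc' w hw (hall c hc' w hw) h2
    · exact hnr c hc' w hw h2
  have hnA := hnot A B hcard hA hnb
  have hnB := hnot B A (by rw [← hcard]; ring) hB fun c hc r hr h1 h2 => hnb c hc r hr h2 h1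
  have hsc := sc_le p
  have hsa := sc_add p
  have hsl := slack hp hf h5 hν
  -- the class 12 for `A`
  rcases out12 tb hcyc hcf hp hf hq h5 hν A hr hrA with hsA | ⟨hallA, hA'⟩
  · by_cases h12 : ∃ w, Prim p (12 * f) w ∧ w ∣ Nat.card B
    · obtain ⟨w, hw, hwB⟩ := h12
      rcases out12 tb hcyc hcf hp hf hq h5 hν B hw hwB with hsB | ⟨hallB, -⟩
      · unfold Small at hsA hsB
        omega
      · exact hnb 12 (Or.inl rfl) r hr hrA (hallB r hr)
    · push Not at h12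
      have hallA : ∀ w, Prim p (12 * f) w → w ∣ Nat.card A := fun w hw =>
        (hor 12 (Or.inl rfl) w hw).resolve_right (h12 w hw)
      obtain ⟨w, hw, hwA⟩ : ∃ w, Prim p (8 * f) w ∧ ¬ w ∣ Nat.card A := by
        by_contra hcon
        push Not at hcon
        exact hnA fun c hc w hw => by
          rcases hc with rfl | rfl
          · exact hallA w hw
          · exact hcon w hw
      have hwB := (hor 8 (Or.inr rfl) w hw).resolve_left hwA
      rcases out8 tb hcyc hcf hp hf hq h5 hν B hw hwB h12 with hsB | ⟨-, hT8⟩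
      · unfold Small at hsA hsB
        omega
      · unfold Small at hsA
        rcases hT8 with h | ⟨h, -⟩ | ⟨h, -⟩
        · omega
        · omega
        · omega
  · have h12 : ∀ w, Prim p (12 * f) w → ¬ w ∣ Nat.card B := fun w hw hwB =>
      hnb 12 (Or.inl rfl) w hw (hallA w hw) hwB
    obtain ⟨w, hw, hwA⟩ : ∃ w, Prim p (8 * f) w ∧ ¬ w ∣ Nat.card A := by
      by_contra hcon
      push Not at hcon
      exact hnA fun c hc w hw => by
        rcases hc with rfl | rfl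
        · exact hallA w hw
        · exact hcon w hw
    have hwB := (hor 8 (Or.inr rfl) w hw).resolve_left hwA
    have hT12 := hA'.resolve_right fun h => hwA (h w hw)
    rcases out8 tb hcyc hcf hp hf hq h5 hν B hw hwB h12 with hsB | ⟨-, hT8⟩
    · unfold Small at hsB
      rcases hT12 with ⟨h, -⟩ | ⟨h, -⟩
      · omega
      · omega
    · exact arith h5 hsl hv hww hT12 hT8

/-- **No exact factorizations.** -/
theorem no_fact (tb : OrderTable.{0}) (hcyc : CycFixSolv.{0}) (hcf : CF) (hp : p.Prime) (hf : 1 ≤ f)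
    (hq : Fintype.card F = p ^ f) (h5 : 5 ≤ p ^ f) {n : ℕ} (hn : n ∣ Nat.gcd 2 p * f)
    (A B : Subgroup ↥(Lie.chevF4.group F)) (hcard : Nat.card A * Nat.card B * n = Nat.card ↥(Lie.chevF4.group F))
    (hA : A ≠ ⊤) (hB : B ≠ ⊤)
    (hnb : ∀ c, c = 12 ∨ c = 8 → ∀ r, Prim p (c * f) r → r ∣ Nat.card A → r ∣ Nat.card B → False) : False := by
  have hfin : Finite ↥(Lie.chevF4.group F) := inferInstance
  obtain ⟨r, hr⟩ : ∃ r, Prim p (12 * f) r := exists_prim hp.two_le (by omega) (by omega)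
  have hn0 : n ≠ 0 := by
    rintro rfl
    rw [mul_zero] at hcard
    exact Nat.card_pos.ne hcard
  have hg2 : Nat.gcd 2 p ≤ 2 := Nat.gcd_le_left _ (by norm_num)
  have hg0 : 0 < Nat.gcd 2 p := Nat.gcd_pos_of_pos_left _ (by norm_num)
  have hnle : n ≤ 2 * f := (Nat.le_of_dvd (Nat.mul_pos hg0 hf) hn).trans (Nat.mul_le_mul_right _ hg2)
  have h1 := Cfsg.Agent.H946.KZ.dvdF4 tb hq (Or.inl rfl) (prim_base (by omega) hr)
  have h2 := base_lt hp (by omega) hr
  rw [← hcard] at h1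
  rcases hr.prime.dvd_mul.1 h1 with h3 | h3
  · rcases hr.prime.dvd_mul.1 h3 with h4 | h4
    · exact no_fact' tb hcyc hcf hp hf hq h5 hn A B hcard hA hB hnb hr h4
    · exact no_fact' tb hcyc hcf hp hf hq h5 hn B A (by rw [← hcard]; ring) hB hA
        (fun c hc r hr h5 h6 => hnb c hc r hr h6 h5) hr h4
  · have := Nat.le_of_dvd (Nat.pos_of_ne_zero hn0) h3
    omega

end

end Cfsg.Agent.H946.RgF4
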