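import Cfsg.Agent.H946.RgF4.Fact
import Cfsg.Agent.H454.Reg.Tools
import Cfsg.Agent.H934.OutB
import Cfsg.Agent.S2122

/-!
# S3691, row `F₄(q)`: almost simple groups with socle `F₄(q)` (helper946)

`no_fac` : no exact factorization with both factors not containing the socle.
-/

set_option autoImplicit false

namespace Cfsg.Agent.H946.RgF4

open Cfsg Cfsg.Agent.OrdDiv Cfsg.Agent.H436 Cfsg.Agent.H902 Cfsg.Agent.H56.Exc Cfsg.Agent.H563.KG Cfsg.Agent.H454.Reg
open Cfsg.Agent.H946.KZ (prim_base)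

universe u

/-- `q ≥ 5` -/
theorem five_of_large (tb : OrderTable.{0}) {F : Type} [Field F] [Fintype F]
    (h : 3 * Nat.factorial 29 < Nat.card ↥(Lie.chevF4.group F)) : 5 ≤ Fintype.card F := by
  by_contra hcon
  have hT := named_f4 (F := F) tb
  set q := Fintype.card F with hq
  have h2 : 2 ≤ q := Fintype.one_lt_card
  have h1 : Nat.card ↥(Lie.chevF4.group F) = q ^ 24 * nF q := by
    have := hT.eq
    rw [← num_f4, ← this]
    exact (one_mul _).symm
  have h3 : q ^ 24 * nF q ≤ q ^ 24 * q ^ 28 := Nat.mul_le_mul_left _ (nF_lt h2).le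
  have h4 : q ^ 24 * q ^ 28 ≤ 4 ^ 52 := by
    rw [← pow_add]
    exact Nat.pow_le_pow_left (by omega) _
  have h5 : 4 ^ 52 < 3 * Nat.factorial 29 := by decide +kernel
  omega

/-- **No exact factorizations.** -/
theorem no_fac (tb : OrderTable.{0}) (hcyc : CycFixSolv.{0}) (hcf : CF) {G : Type u} [Group G] [Finite G]
    {T X Y : Subgroup G} (h : Fac T X Y) {F : Type} [Field F] [Fintype F] (e : T ≃* ↥(Lie.chevF4.group F)) :
    False := by
  obtain ⟨p, f, _, hp, hf, hq⟩ := exists_pf F
  have := Fact.mk hp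
  have hfin : Finite ↥(Lie.chevF4.group F) := inferInstance
  obtain ⟨n, -, hn, hc⟩ := h.card0
  have hout : Nat.card (Cfsg.Out T) = Nat.gcd 2 p * f :=
    (Cfsg.Agent.H934.OutB.card_out_congr e).trans (Cfsg.Agent.S2122.result p f hq)
  have hcT : Nat.card T = Nat.card ↥(Lie.chevF4.group F) := Nat.card_congr e.toEquiv
  have h5 : 5 ≤ p ^ f := by
    rw [← hq]
    refine five_of_large tb ?_
    rw [← hcT]
    exact h.large
  have hcm : ∀ Z : Subgroup T, Nat.card (Z.map e.toMonoidHom) = Nat.card Z := fun Z =>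
    Subgroup.card_map_of_injective e.injective
  have hmt : ∀ Z : Subgroup T, Z ≠ ⊤ → Z.map e.toMonoidHom ≠ ⊤ := by
    intro Z hZ hm
    apply hZ
    apply Subgroup.eq_top_of_card_eq
    rw [← hcm Z, hm, Subgroup.card_top, hcT]
  refine no_fact (F := F) tb hcyc hcf hp (by omega) hq h5 (n := n) (by rw [← hout]; exact hn)
    ((X.subgroupOf T).map e.toMonoidHom) ((Y.subgroupOf T).map e.toMonoidHom) ?_ (hmt _ h.ne_top_left)
    (hmt _ h.ne_top_right) ?_
  · rw [hcm, hcm, hc, hcT]
  · intro c hc' r hr h1 h2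
    rw [hcm] at h1 h2
    have hb := (Cfsg.Agent.H946.KZ.bigF4 (F := F) hq hc' (prim_base (by omega) hr)).congr e.symm
    exact h.not_both hr.prime (fun P hP => hb.isCyclic_of_isPGroup hP) h1 h2

/-- the row, from the input that the complement does not contain the socle -/
theorem row_f4_of (tb : OrderTable.{0}) (hcyc : CycFixSolv.{0}) (hcf : CF)
    (hfac : ∀ {G : Type u} [Group G] [Finite G] {T H B : Subgroup G}, Ex T H B → Fac T H B)
    (F : Type) [Field F] [Fintype F] : Row.{0, u} (Lie.chevF4.group F) := by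
  intro G _ _ T H B h he
  obtain ⟨e⟩ := he
  exact (no_fac tb hcyc hcf (hfac h) e).elim

end Cfsg.Agent.H946.RgF4
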