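import Cfsg.Agent.H946.KZ.Rows
import Cfsg.Agent.H563.KG.KF4
import Cfsg.Agent.H946.RgF4.Cross

/-!
# S3691, row `F₄(q)`: a subgroup containing the primes of the classes 8 and 12 (helper946)

`top_of_off` : a proper subgroup of `F₄(p ^ f)` has index divisible by a prime `r` with `ord_r(p) = 12 f` or `8 f`.
-/

set_option autoImplicit false

namespace Cfsg.Agent.H946.RgF4

open Cfsg Cfsg.Agent.OrdDiv Cfsg.Agent.H436 Cfsg.Agent.H902 Cfsg.Agent.H902.Names Cfsg.Agent.H290.ElReg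
  Cfsg.Agent.H290.ElTab Cfsg.Agent.H290.ElCross
  Cfsg.Agent.H56.Exc Cfsg.Agent.H325.Loc Cfsg.Agent.H915.GN Cfsg.Agent.H264.FKS Cfsg.Agent.H325.Same
  Cfsg.Agent.H325.IsoExc Cfsg.Agent.H563.KG Cfsg.Agent.H946.KZ

variable {p f : ℕ}

/-! ### classes over `p ^ f` and over `p` -/

theorem prim_ord {s : ℕ} (hs : s.Prime) (hsp : ¬ s ∣ p) : Prim p (orderOf ((p : ℕ) : ZMod s)) s := by
  refine ⟨hs, fun m => ?_, hsp⟩
  have hp1 : 1 ≤ p ^ m := Nat.one_le_pow _ _ (Nat.pos_of_ne_zero fun h => hsp (by rw [h]; exact dvd_zero _))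
  rw [← ZMod.natCast_eq_zero_iff, Nat.cast_sub hp1, Nat.cast_pow, Nat.cast_one, sub_eq_zero,
    ← orderOf_dvd_iff_pow_eq_one]

theorem prim_up {c s : ℕ} (hf : f ≠ 0) (hs : Prim (p ^ f) c s) :
    ∃ g, g ∣ f ∧ Nat.gcd (c * g) f = g ∧ Prim p (c * g) s := by
  have hsp : ¬ s ∣ p := fun h => hs.not_dvd (dvd_pow h hf)
  have h1 := prim_ord hs.prime hsp
  set k := orderOf ((p : ℕ) : ZMod s)
  have h2 := Cfsg.Agent.H425.Chr.prim_quot hf h1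
  have h3 := hs.unique h2
  have h4 : c * Nat.gcd k f = k := by rw [h3]; exact Nat.div_mul_cancel (Nat.gcd_dvd_left _ _)
  exact ⟨Nat.gcd k f, Nat.gcd_dvd_right _ _, by rw [h4], by rw [h4]; exact h1⟩

theorem prim_up' {c s : ℕ} (hf : f = 1 ∨ f = 2 ∨ f = 4 ∨ f = 8) (hc : c = 12 ∨ c = 8) (hs : Prim (p ^ f) c s) :
    Prim p (c * f) s := by
  obtain ⟨g, hg, hgcd, h⟩ := prim_up (by omega) hs
  have hle := Nat.le_of_dvd (by omega) hg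
  have : g = f := by
    rcases hf with rfl | rfl | rfl | rfl <;> rcases hc with rfl | rfl <;> interval_cases g <;>
      first | rfl | (exfalso; revert hgcd; decide)
  rwa [← this]

/-! ### a large divisor of the class 12 number -/

theorem ph12 (x : ℕ) : Ph 12 x = x ^ 4 - x ^ 2 + 1 := rfl

theorem prim_of_ph {x s : ℕ} (hx : 1 ≤ x) (hs : s.Prime) (h : s ∣ Ph 12 x) : Prim x 12 s :=
  prim_of_dvd c12 hx hs (by rw [ncl12_eq]; exact h)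

/-- `m N = M` with `M = Φ₁₂(p^f)`, `N = Φ₁₂(p)` -/
theorem big_quot {f m : ℕ} (hp : 2 ≤ p) (hf : 5 ≤ f) (h : Ph 12 p * m = Ph 12 (p ^ f)) : 2701 < m := by
  rw [ph12, ph12] at h
  have h1 : p ^ 4 - p ^ 2 + 1 ≤ p ^ 4 := by
    have : 2 ^ 2 ≤ p ^ 2 := Nat.pow_le_pow_left hp 2
    have h2 : p ^ 2 ≤ p ^ 4 := Nat.pow_le_pow_right (by omega) (by norm_num)
    omega
  have h2 : p ^ 4 * m ≥ (p ^ f) ^ 4 - (p ^ f) ^ 2 + 1 := by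
    rw [← h]
    exact Nat.mul_le_mul_right _ h1
  have h3 : 2 ^ 5 ≤ p ^ f := (Nat.pow_le_pow_left hp 5).trans (Nat.pow_le_pow_right (by omega) hf)
  have h4 : (p ^ f) ^ 2 * 1024 ≤ (p ^ f) ^ 4 := by
    calc (p ^ f) ^ 2 * 1024 = (p ^ f) ^ 2 * (2 ^ 5) ^ 2 := by norm_num
      _ ≤ (p ^ f) ^ 2 * (p ^ f) ^ 2 := Nat.mul_le_mul_left _ (Nat.pow_le_pow_left h3 2)
      _ = _ := by ring
  have h5 : p ^ 4 * 2 ^ 16 ≤ (p ^ f) ^ 4 := by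
    calc p ^ 4 * 2 ^ 16 ≤ p ^ 4 * p ^ 16 := Nat.mul_le_mul_left _ (Nat.pow_le_pow_left hp 16)
      _ = p ^ (5 * 4) := by ring
      _ ≤ p ^ (f * 4) := Nat.pow_le_pow_right (by omega) (by omega)
      _ = _ := pow_mul _ _ _
  by_contra hcon
  have h6 : p ^ 4 * m ≤ p ^ 4 * 2701 := Nat.mul_le_mul_left _ (by omega)
  omega

theorem exists_m (hp : p.Prime) (hf : f = 3 ∨ f = 5 ∨ f = 6 ∨ f = 7) :
    ∃ m, m ∣ Ph 12 (p ^ f) ∧ 2701 < m ∧ ∀ s, s.Prime → s ∣ m → Prim p (12 * f) s := by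
  have hp2 := hp.two_le
  have hq1 : ∀ k, 1 ≤ p ^ k := fun k => Nat.one_le_pow _ _ hp.pos
  have hc1 : ((Ph 12 p : ℕ) : ℤ) = (p : ℤ) ^ 4 - (p : ℤ) ^ 2 + 1 := cast_Ph12 _ (by omega)
  have hcq : ∀ k, ((Ph 12 (p ^ k) : ℕ) : ℤ) = ((p : ℤ) ^ k) ^ 4 - ((p : ℤ) ^ k) ^ 2 + 1 := by
    intro k
    rw [cast_Ph12 _ (hq1 k)]
    push_cast
    rfl
  have hNpos : (0 : ℤ) < (p : ℤ) ^ 4 - (p : ℤ) ^ 2 + 1 := by
    rw [← hc1]
    exact_mod_cast Ph_pos 12 (by omega : 1 ≤ p)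
  have small : f = 3 ∨ f = 6 → ∃ m, m ∣ Ph 12 (p ^ f) ∧ 2701 < m ∧ ∀ s, s.Prime → s ∣ m → Prim p (12 * f) s := by
    intro hf'
    refine ⟨_, dvd_rfl, ?_, fun s hs hsm => ?_⟩
    · rw [ph12]
      have h3 : 2 ^ 3 ≤ p ^ f := (Nat.pow_le_pow_left hp2 3).trans (Nat.pow_le_pow_right (by omega) (by omega))
      have h4 : (p ^ f) ^ 2 * 64 ≤ (p ^ f) ^ 4 := by
        calc (p ^ f) ^ 2 * 64 = (p ^ f) ^ 2 * (2 ^ 3) ^ 2 := by norm_num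
          _ ≤ (p ^ f) ^ 2 * (p ^ f) ^ 2 := Nat.mul_le_mul_left _ (Nat.pow_le_pow_left h3 2)
          _ = _ := by ring
      have h5 : (2 ^ 3) ^ 2 ≤ (p ^ f) ^ 2 := Nat.pow_le_pow_left h3 2
      omega
    · obtain ⟨g, hg, hgcd, h⟩ := prim_up (by omega) (prim_of_ph (hq1 f) hs hsm)
      have hle := Nat.le_of_dvd (by omega) hg
      have : g = f := by
        rcases hf' with rfl | rfl <;> interval_cases g <;> first | rfl | (exfalso; revert hgcd; decide)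
      rwa [← this]
  have large : ∀ (Q R : ℤ) (m : ℕ), (f = 5 ∨ f = 7) → ((m : ℕ) : ℤ) = Ph 12 p * Q + f * R → (R = 1 ∨ R = (p : ℤ) ^ 2) →
      Ph 12 p * m = Ph 12 (p ^ f) →
      ∃ m, m ∣ Ph 12 (p ^ f) ∧ 2701 < m ∧ ∀ s, s.Prime → s ∣ m → Prim p (12 * f) s := by
    intro Q R m hf' hmQ hR hM
    refine ⟨m, Dvd.intro_left _ hM, big_quot hp2 (by omega) hM, fun s hs hsm => ?_⟩
    obtain ⟨g, hg, hgcd, h⟩ := prim_up (by omega) (prim_of_ph (hq1 f) hs (hsm.trans (Dvd.intro_left _ hM)))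
    have hle := Nat.le_of_dvd (by omega) hg
    have hg1 : g = f ∨ g = 1 := by
      rcases hf' with rfl | rfl <;> interval_cases g <;> first | omega | (exfalso; revert hg; decide)
    rcases hg1 with rfl | rfl
    · exact h
    · exfalso
      rw [mul_one] at h
      have h1 : s ∣ Ph 12 p := dvd_Ph c12 (by omega) h
      have h2 : (s : ℤ) ∣ (m : ℤ) := Int.natCast_dvd_natCast.2 hsm
      rw [hmQ] at h2
      have h3 : (s : ℤ) ∣ ((Ph 12 p : ℕ) : ℤ) * Q := (Int.natCast_dvd_natCast.2 h1).mul_right _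
      have h4 : (s : ℤ) ∣ (f : ℤ) * R := (dvd_add_right h3).1 h2
      have hsP := Nat.prime_iff_prime_int.1 hs
      rcases hsP.dvd_or_dvd h4 with h5 | h5
      · have h6 : s ∣ f := Int.natCast_dvd_natCast.1 h5
        have h7 := Nat.le_of_dvd (by omega) h6
        have h8 := Cfsg.Agent.H563.KG.lt_of_prim hp2 (by norm_num) h
        omega
      · rcases hR with hR | hR
        · rw [hR] at h5
          exact hsP.not_isUnit (isUnit_of_dvd_one h5)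
        · rw [hR] at h5
          have h6 : (s : ℤ) ∣ (p : ℤ) := hsP.dvd_of_dvd_pow h5
          exact h.not_dvd (Int.natCast_dvd_natCast.1 h6)
  rcases hf with rfl | rfl | rfl | rfl
  · exact small (Or.inl rfl)
  · obtain ⟨m, hm⟩ : Ph 12 p ∣ Ph 12 (p ^ 5) := by
      rw [← Int.natCast_dvd_natCast, hc1, hcq]
      exact ⟨(p : ℤ) ^ 16 + (p : ℤ) ^ 14 - (p : ℤ) ^ 10 - (p : ℤ) ^ 8 - (p : ℤ) ^ 6 + (p : ℤ) ^ 2 + 1, by ring⟩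
    refine large (1 - 3 * (p : ℤ) ^ 2 - 4 * (p : ℤ) ^ 4 - 2 * (p : ℤ) ^ 6 + (p : ℤ) ^ 8 + 2 * (p : ℤ) ^ 10 + (p : ℤ) ^ 12)
      ((p : ℤ) ^ 2) m (Or.inl rfl) ?_ (Or.inr rfl) hm.symm
    have h1 : ((Ph 12 (p ^ 5) : ℕ) : ℤ) = ((Ph 12 p : ℕ) : ℤ) * (m : ℤ) := by rw [hm]; push_cast; rfl
    rw [hcq, hc1] at h1
    have h2 : (m : ℤ) = (p : ℤ) ^ 16 + (p : ℤ) ^ 14 - (p : ℤ) ^ 10 - (p : ℤ) ^ 8 - (p : ℤ) ^ 6 + (p : ℤ) ^ 2 + 1 := by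
      apply mul_left_cancel₀ hNpos.ne'
      rw [← h1]; ring
    rw [h2, hc1]
    push_cast
    ring
  · exact small (Or.inr rfl)
  · obtain ⟨m, hm⟩ : Ph 12 p ∣ Ph 12 (p ^ 7) := by
      rw [← Int.natCast_dvd_natCast, hc1, hcq]
      exact ⟨(p : ℤ) ^ 24 + (p : ℤ) ^ 22 - (p : ℤ) ^ 18 - (p : ℤ) ^ 16 + (p : ℤ) ^ 12 - (p : ℤ) ^ 8 - (p : ℤ) ^ 6 +
        (p : ℤ) ^ 2 + 1, by ring⟩
    refine large (-6 - 5 * (p : ℤ) ^ 2 + (p : ℤ) ^ 4 + 5 * (p : ℤ) ^ 6 + 3 * (p : ℤ) ^ 8 - 2 * (p : ℤ) ^ 10 -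
      4 * (p : ℤ) ^ 12 - 2 * (p : ℤ) ^ 14 + (p : ℤ) ^ 16 + 2 * (p : ℤ) ^ 18 + (p : ℤ) ^ 20)
      1 m (Or.inr rfl) ?_ (Or.inl rfl) hm.symm
    have h1 : ((Ph 12 (p ^ 7) : ℕ) : ℤ) = ((Ph 12 p : ℕ) : ℤ) * (m : ℤ) := by rw [hm]; push_cast; rfl
    rw [hcq, hc1] at h1
    have h2 : (m : ℤ) = (p : ℤ) ^ 24 + (p : ℤ) ^ 22 - (p : ℤ) ^ 18 - (p : ℤ) ^ 16 + (p : ℤ) ^ 12 - (p : ℤ) ^ 8 -
        (p : ℤ) ^ 6 + (p : ℤ) ^ 2 + 1 := by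
      apply mul_left_cancel₀ hNpos.ne'
      rw [← h1]; ring
    rw [h2, hc1]
    push_cast
    ring

end Cfsg.Agent.H946.RgF4
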