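import Cfsg.Agent.H946.KZ.Gap
import Cfsg.Agent.H946.RgF4.Top

/-!
# S3691, row `F₄(q)`: a subgroup containing the primes of the classes 8 and 12, the theorem (helper946)

`top_of_off` : a proper subgroup of `F₄(p ^ f)` has index divisible by a prime `r` with `ord_r(p) = 12 f` or `8 f`.
-/

set_option autoImplicit false

namespace Cfsg.Agent.H946.RgF4

open Cfsg Cfsg.Agent.OrdDiv Cfsg.Agent.H436 Cfsg.Agent.H902 Cfsg.Agent.H902.Names Cfsg.Agent.H290.ElReg
  Cfsg.Agent.H290.ElTab Cfsg.Agent.H290.ElCross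
  Cfsg.Agent.H56.Exc Cfsg.Agent.H325.Loc Cfsg.Agent.H915.GN Cfsg.Agent.H264.FKS Cfsg.Agent.H325.Same
  Cfsg.Agent.H325.IsoExc Cfsg.Agent.H563.KG Cfsg.Agent.H946.KZ

variable {p f : ℕ}

/-- a number dividing the order, with prime divisors `≡ 1 mod 12` -/
theorem le_of_lie {X : Art.Sh} {l a N m : ℕ} (hR : Art.Real X l a N) (hlb : lb X (l ^ a) ≤ 52) (hm : m ∣ N)
    (h12 : ∀ s, s.Prime → s ∣ m → (s - 1) % 12 = 0) : m ≤ 2701 := by
  obtain ⟨hl, ha, hokX, heq⟩ := hR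
  have hn : 52 ≤ 248 := by norm_num
  have hreg := mem_reg hn hl ha hokX hlb
  have hs' : smooth (NA X l a) = true :=
    List.all_eq_true.1 smooth_reg (X, (l, a)) (mem_reg le_rfl hl ha hokX (hlb.trans hn))
  have hsS : smooth (NS X l a) = true := by
    have h1 : NS X l a ∣ NA X l a := Dvd.intro_left _ rfl
    have h2 : NA X l a ∣ prs.prod ^ 100 := Nat.dvd_of_mod_eq_zero (by simpa [smooth] using hs')
    simpa [smooth] using Nat.mod_eq_zero_of_dvd (h1.trans h2)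
  have hM : OL X (l ^ a) = Art.dd X (l ^ a) * N := by unfold OL; rw [numL_eq]; exact heq.symm
  have hNM : N ∣ OL X (l ^ a) := Dvd.intro_left _ hM.symm
  have hNS : ∀ r, r.Prime → r ∣ N → r ∣ NS X l a := by
    intro r hr h
    unfold NS
    have h1 : r ∣ (l ^ a) ^ Art.NN X * numL X (l ^ a) := h.trans hNM
    rcases hr.dvd_mul.1 h1 with h2 | h2
    · exact (hr.dvd_of_dvd_pow (hr.dvd_of_dvd_pow h2)).mul_right _
    · exact h2.mul_left _
  have hb' := List.all_eq_true.1 bndR_52_12 (X, (l, a)) hreg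
  simp only [Bool.and_eq_true, Nat.ble_eq, Nat.blt_eq] at hb'
  have hM0 : OL X (l ^ a) ≠ 0 := by
    intro h0
    have h3 : l ^ a ≠ 0 := pow_ne_zero _ hl.ne_zero
    have h4 : NS X l a ≠ 0 := by
      intro h5
      have h6 : NS X l a ∣ prs.prod ^ 100 := Nat.dvd_of_mod_eq_zero (by simpa [smooth] using hsS)
      rw [h5] at h6
      have h7 := Nat.eq_zero_of_zero_dvd h6
      have h8 : prs.prod ≠ 0 := by decide +kernel
      exact pow_ne_zero 100 h8 h7
    apply h4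
    unfold OL at h0
    rcases Nat.mul_eq_zero.1 h0 with h5 | h5
    · exact absurd h5 (pow_ne_zero _ h3)
    · unfold NS
      rw [h5, mul_zero]
  have h1 : m ∣ De (pd (NS X l a)) (OL X (l ^ a)) 12 := by
    refine dvd_De hM0 hb'.2 (hm.trans hNM) fun r hr hrd => ?_
    exact ⟨mem_pd hsS hr (hNS r hr (hrd.trans hm)), h12 r hr hrd⟩
  have h3 : De (pd (NS X l a)) (OL X (l ^ a)) 12 ≠ 0 := by
    unfold De
    intro h4
    rw [List.prod_eq_zero_iff, List.mem_map] at h4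
    obtain ⟨r, -, h5⟩ := h4
    exact hM0 (Nat.eq_zero_of_gcd_eq_zero_left h5)
  exact (Nat.le_of_dvd (Nat.pos_of_ne_zero h3) h1).trans hb'.1

theorem le_of_spor {x : Cfsg.Agent.OrdDiv.Grp × ℕ} (hx : x ∈ Cfsg.Agent.OrdDiv.spor) {m : ℕ} (hm : m ∣ x.2)
    (h12 : ∀ s, s.Prime → s ∣ m → (s - 1) % 12 = 0) : m ≤ 2701 := by
  have hs' : smooth x.2 = true := List.all_eq_true.1 smooth_spor x hx
  have hb' := List.all_eq_true.1 bndS_12 x hx
  simp only [Bool.and_eq_true, Nat.ble_eq, Nat.blt_eq] at hb'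
  have hM0 : x.2 ≠ 0 := by
    have : ∀ x ∈ Cfsg.Agent.OrdDiv.spor, x.2 ≠ 0 := by decide +kernel
    exact this x hx
  have h1 : m ∣ De (pd x.2) x.2 12 := by
    refine dvd_De hM0 hb'.2 hm fun r hr hrd => ?_
    exact ⟨mem_pd hs' hr (hrd.trans hm), h12 r hr hrd⟩
  have h3 : De (pd x.2) x.2 12 ≠ 0 := by
    unfold De
    intro h4
    rw [List.prod_eq_zero_iff, List.mem_map] at h4
    obtain ⟨r, -, h5⟩ := h4
    exact hM0 (Nat.eq_zero_of_gcd_eq_zero_left h5)
  exact (Nat.le_of_dvd (Nat.pos_of_ne_zero h3) h1).trans hb'.1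

/-- **The name.** -/
theorem name_of (tb : OrderTable.{0}) (hp : p.Prime) (hf : 3 ≤ f) {F : Type} [Field F] [CharP F p] {S : Type}
    [Group S] [Finite S] [IsSimpleGroup S] (hna : ¬ IsMulCommutative S) (hK : IsKnownSimple' S) (hrep : Fth 52 F S)
    {m : ℕ} (hm : m ∣ Nat.card S) (hbig : 2701 < m) (hm12 : ∀ s, s.Prime → s ∣ m → Prim p (12 * f) s) {r M : ℕ}
    (hr : Prim p (12 * f) r) (hrS : r ∣ Nat.card S) (hb : Big S r M 12) : ∃ g, IsNamed g S ∧ HasChar p g := by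
  have hna' : ¬ ∀ a b : S, a * b = b * a := fun h => hna ⟨⟨h⟩⟩
  have h12 : ∀ s, s.Prime → s ∣ m → (s - 1) % 12 = 0 := fun s hs hsm =>
    Nat.mod_eq_zero_of_dvd ((Dvd.intro _ rfl).trans
      (Cfsg.Agent.H946.KZ.mod_of_prim hp.two_le (by omega) (hm12 s hs hsm)))
  obtain ⟨g, hgS⟩ := exists_named tb hK hna'
  rcases Cfsg.Agent.H192.Singer.cases_name hgS.cond with ⟨k, rfl⟩ | hsp | ⟨l, hl, hch⟩
  · exfalso
    obtain ⟨Φ⟩ : Nonempty (S ≃* alternatingGroup (Fin k)) := hgS.real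
    have h1 := Cfsg.Agent.H946.KZ.lt_of_prim hp.two_le (by omega) hr
    have h2 := alt_dvd hb hrS (by omega) Φ
    have h3 := Nat.le_of_dvd (by norm_num) h2
    omega
  · exfalso
    have h1 := Cfsg.Agent.H192.Singer.spor_mem hsp
    have h2 : Nat.card S = ordN g := hgS.ord
    have h3 := le_of_spor h1 (m := m) (by rw [← h2]; exact hm) h12
    omega
  · by_cases hpl : p = l
    · subst hpl
      exact ⟨g, hgS, hch⟩
    · exfalso
      obtain ⟨X, f₁, h1, h2, -⟩ := exists_lie hl hgS hch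
      have hlF : (l : F) ≠ 0 := by
        intro h
        exact hpl ((Nat.prime_dvd_prime_iff_eq hp hl).1 ((CharP.cast_eq_zero_iff F p l).1 h))
      have h3 := lb_le hna' (by norm_num) hrep h1 hgS.real h2 hlF
      have := le_of_lie h2 h3 hm h12
      omega

/-- the family of all big primes of the classes 12 and 8 dividing the order -/
def Fq {T : Type*} [Group T] (B : Subgroup T) (q r m e : ℕ) : Prop :=
  ∃ c, (c = 12 ∨ c = 8) ∧ Prim q c r ∧ r ∣ Nat.card B ∧ m = Ph c q ∧ e = c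

/-- **The theorem for `f = 3, 5, 6, 7`.** -/
theorem KP_F4 {F : Type} [Field F] [Fintype F] [CharP F p] (tb : OrderTable.{0}) (hcyc : CycFixSolv.{0}) (hcf : CF)
    (hp : p.Prime) (hf : f = 3 ∨ f = 5 ∨ f = 6 ∨ f = 7) (hq : Fintype.card F = p ^ f)
    (B : Subgroup ↥(Lie.chevF4.group F)) (hoff : OffZ p f [12, 8] B) : B = ⊤ := by
  have := Fact.mk hp
  have h2p := hp.two_le
  have hfin : Finite ↥(Lie.chevF4.group F) := inferInstance
  have hT := named_f4 (F := F) tb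
  rw [hq] at hT
  have hq2 : 2 ≤ p ^ f := hp.two_le.trans (Nat.le_self_pow (by omega) p)
  have hq1 : 1 ≤ p ^ f := by omega
  have hcl : ∀ c, c = 12 ∨ c = 8 → Cls c := by
    intro c hc
    unfold Cls
    omega
  have hbase : ∀ {c r : ℕ}, Prim p (c * f) r → Prim (p ^ f) c r := fun h => prim_base (by omega) h
  have hbig : ∀ c, c = 12 ∨ c = 8 → ∀ r, Prim (p ^ f) c r → Big ↥(Lie.chevF4.group F) r (Ph c (p ^ f)) c :=
    fun c hc r hr => bigF4 hq hc hr
  have hdvd : ∀ c, c = 12 ∨ c = 8 → ∀ r, Prim p (c * f) r → r ∣ Nat.card B := by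
    intro c hc r hr
    have h1 : r ∣ Nat.card ↥(Lie.chevF4.group F) := dvdF4 tb hq hc (hbase hr)
    rw [← B.index_mul_card] at h1
    exact (hr.prime.dvd_mul.1 h1).resolve_left (hoff c (by simp only [List.mem_cons, List.not_mem_nil]; tauto) r hr)
  obtain ⟨m, hm, hm1, hm2⟩ := exists_m hp hf
  have hmB : m ∣ Nat.card B := by
    have h1 : m ∣ Nat.card ↥(Lie.chevF4.group F) := by
      have h2 : Ph 12 (p ^ f) ∣ Nat.card ↥(Lie.chevF4.group F) := by
        have h3 : 1 * Nat.card ↥(Lie.chevF4.group F) = (p ^ f) ^ 24 * (((p ^ f) ^ 2 - 1) * ((p ^ f) ^ 6 - 1) *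
          ((p ^ f) ^ 8 - 1) * ((p ^ f) ^ 12 - 1)) := hT.eq
        rw [one_mul] at h3
        rw [h3]
        exact (Ph_dvd (hcl 12 (Or.inl rfl)) hq1).trans ((Dvd.intro_left _ rfl).trans (Dvd.intro_left _ rfl))
      exact hm.trans h2
    rw [← B.index_mul_card] at h1
    refine Nat.Coprime.dvd_of_dvd_mul_left ?_ h1
    by_contra hcon
    obtain ⟨s, hs, h2, h3⟩ := Nat.Prime.not_coprime_iff_dvd.1 hcon
    exact hoff 12 (by simp) s (hm2 s hs h2) h3
  obtain ⟨r₀, hr₀⟩ : ∃ r, Prim p (12 * f) r := exists_prim h2p (by omega) (by omega)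
  obtain ⟨r₁, hr₁⟩ : ∃ r, Prim p (8 * f) r := exists_prim h2p (by omega) (by omega)
  have hpiso : PIso p r₀ ↥(Lie.chevF4.group F) := piso_F4 (F := F) (Or.inr rfl) (by rw [hq]; exact hbase hr₀)
  have hr₀B : r₀ ∣ Nat.card B := hdvd 12 (Or.inl rfl) r₀ hr₀
  have hlt : ∀ c, c = 12 ∨ c = 8 → ∀ r, Prim p (c * f) r → c < r := by
    intro c hc r hr
    have h1 := Cfsg.Agent.H946.KZ.lt_of_prim h2p (by
      have : 0 < c * f := Nat.mul_pos (by omega) (by omega)
      omega) hr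
    have h3 : c * 1 ≤ c * f := Nat.mul_le_mul_left _ (by omega)
    omega
  have hrf : RFam ↥B (Fq B (p ^ f)) :=
    { big := by
        rintro r _ _ ⟨c, hc, h, -, rfl, rfl⟩
        exact (hbig _ hc r h).subgroup B
      dvd := by
        rintro r _ _ ⟨c, hc, h, h1, rfl, rfl⟩
        exact h1
      sep := by
        rintro r _ c ⟨_, hc, h, -, rfl, rfl⟩ hcon
        obtain ⟨c', hc', hne, s, hs⟩ : ∃ c', (c' = 12 ∨ c' = 8) ∧ ¬ c' ∣ c ∧ ∃ s, Prim p (c' * f) s := by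
          rcases hc with rfl | rfl
          · exact ⟨8, Or.inr rfl, by norm_num, r₁, hr₁⟩
          · exact ⟨12, Or.inl rfl, by norm_num, r₀, hr₀⟩
        have h1 : s ∣ Nat.card B := hdvd c' hc' s hs
        rcases hs.prime.dvd_mul.1 (h1.trans hcon) with h2 | h2
        · have h3 : s ∣ 2 ^ 3 * 3 := h2.trans (by rcases hc with rfl | rfl <;> decide)
          have h4 := hlt c' hc' s hs
          rcases hs.prime.dvd_mul.1 h3 with h5 | h5
          · have := Nat.le_of_dvd (by norm_num) (hs.prime.dvd_of_dvd_pow h5)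
            omega
          · have := Nat.le_of_dvd (by norm_num) h5
            omega
        · have h5 := h2.trans (Ph_dvd (hcl c hc) hq1)
          exact hne (((hbase hs).dvd_iff c).1 h5) }
  have hrep := fth_F4 (F := F)
  obtain ⟨τ, hτ⟩ := hrep.sub B.subtype B.subtype_injective
  have hred : Red ↥B (Pr (Fq B (p ^ f))) := by
    refine red_of hcyc hτ (fun A hA hAp => pcore_of_piso (hpiso.sub B) hr₀B A hA hAp)
      (r := r₀) ⟨_, _, 12, Or.inl rfl, hbase hr₀, hr₀B, rfl, rfl⟩ hr₀.prime hr₀B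
      (fun x hx => ((hbig 12 (Or.inl rfl) r₀ (hbase hr₀)).subgroup B).cyc x hx) fun t ht htp htn htB => ?_
    rw [Fintype.card_fin]
    refine ⟨m, hmB, ?_, Or.inl (by omega)⟩
    intro x hx hxm a hat hxa
    by_contra ha1
    have := Fact.mk ht
    have h4 : orderOf (a : ↥(Lie.chevF4.group F)) = t := by
      rw [Subgroup.orderOf_coe]
      exact orderOf_eq_prime hat ha1
    have h5 : (a : ↥(Lie.chevF4.group F)) ∈ Subgroup.centralizer ({(x : ↥(Lie.chevF4.group F))} : Set _) :=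
      Subgroup.mem_centralizer_singleton_iff.2 (congrArg Subtype.val hxa.symm)
    have h6 : orderOf (a : ↥(Lie.chevF4.group F)) ∣
        Nat.card ↥(Subgroup.centralizer ({(x : ↥(Lie.chevF4.group F))} : Set ↥(Lie.chevF4.group F))) := by
      have h7 := orderOf_dvd_natCard
        (⟨a, h5⟩ : ↥(Subgroup.centralizer ({(x : ↥(Lie.chevF4.group F))} : Set ↥(Lie.chevF4.group F))))
      rwa [← Subgroup.orderOf_coe] at h7
    rw [h4] at h6
    have h8 : orderOf (x : ↥(Lie.chevF4.group F)) = orderOf x := Subgroup.orderOf_coe x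
    have h9 := h6.trans ((hbig 12 (Or.inl rfl) (orderOf x) (hbase (hm2 _ hx hxm))).card _ h8)
    exact htn ⟨_, _, 12, Or.inl rfl, prim_of_ph hq1 ht h9, htB, rfl, rfl⟩
  obtain ⟨S, hSn, hSs, hSna, hS⟩ :=
    hrf.exists_full hcyc hred (r₁ := r₀) ⟨12, Or.inl rfl, hbase hr₀, hr₀B, rfl, rfl⟩
  have hall : ∀ c, c = 12 ∨ c = 8 → ∀ r, Prim p (c * f) r →
      Big S r (Ph c (p ^ f)) c ∧ r ∣ Nat.card S ∧ ¬ r ∣ S.index ∧ S.index ∣ c * Ph c (p ^ f) :=
    fun c hc r h => hS r (Ph c (p ^ f)) c ⟨c, hc, hbase h, hdvd c hc r h, rfl, rfl⟩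
  have hSs' : IsSimpleGroup S := hSs
  have hmS : m ∣ Nat.card S := by
    rw [← S.index_mul_card] at hmB
    refine Nat.Coprime.dvd_of_dvd_mul_left ?_ hmB
    by_contra hcon
    obtain ⟨s, hs, h2, h3⟩ := Nat.Prime.not_coprime_iff_dvd.1 hcon
    exact (hall 12 (Or.inl rfl) s (hm2 s hs h2)).2.2.1 h3
  obtain ⟨g, hg, hch⟩ := name_of tb hp (f := f) (by omega) hSna (hcf S)
    ((hrep.sub B.subtype B.subtype_injective).sub S.subtype S.subtype_injective) hmS hm1 hm2 hr₀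
    (hall 12 (Or.inl rfl) r₀ hr₀).2.1 (hall 12 (Or.inl rfl) r₀ hr₀).1
  have hdS : Nat.card S ∣ num (.f4 (p ^ f)) := IsNamed.card_dvd hT S
  rcases charp_f4z hp (by omega) hg.cond hch hg.eq hdS
    (fun s hs => (hall 8 (Or.inr rfl) s (by rwa [mul_comm])).2.1)
    (fun s hs => (hall 12 (Or.inl rfl) s (by rwa [mul_comm])).2.1) with rfl | rfl
  · exact eq_top_of_name hT hg
  · exfalso
    obtain ⟨s, hs⟩ := exists_prim (q := p ^ f) (e := 8) hq2 (by norm_num) (by omega)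
    exact kill_psl3 hp hg hs (((piso_F4 (F := F) (p := p) (Or.inl rfl) (by rw [hq]; exact hs)).sub B).sub S)

/-- **A proper subgroup has index divisible by one of the primes.** -/
theorem top_of_off {F : Type} [Field F] [Fintype F] [CharP F p] (tb : OrderTable.{0}) (hcyc : CycFixSolv.{0})
    (hcf : CF) (hp : p.Prime) (hf : 1 ≤ f) (hq : Fintype.card F = p ^ f)
    (B : Subgroup ↥(Lie.chevF4.group F)) (hoff : OffZ p f [12, 8] B) : B = ⊤ := by
  by_cases h9 : 9 ≤ f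
  · exact KZ_F4 tb hcyc hcf hp h9 hq B hoff
  by_cases h3 : f = 3 ∨ f = 5 ∨ f = 6 ∨ f = 7
  · exact KP_F4 tb hcyc hcf hp h3 hq B hoff
  · refine K_F4 tb hcyc hcf B ?_
    rw [hq]
    intro c hc r hr
    exact hoff c hc r (prim_up' (by omega) (by simpa using hc) hr)

end Cfsg.Agent.H946.RgF4
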